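import Mathlib
import Cfsg.Agent.LieRecognition.ReeSetup
set_option linter.all false

/-!
# Element counts, conjugacy of cyclic subgroups and centralisers of tori in the small Ree groups

Abstract versions, over the Bruhat normal form `ReeAbs.Data`.
-/

set_option autoImplicit false
set_option linter.unusedSectionVars false

namespace Cfsg.Agent.H125.ReeFull

open Subgroup
open Cfsg.Agent.LieRecognition
open Cfsg.Agent.LieRecognition.ReeInv
open Cfsg.Agent.LieRecognition.ReeTorusB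
open Cfsg.Agent.LieRecognition.ReeClass

section general

variable {G : Type*} [Group G]

/-- counting the conjugates of a TI set -/
theorem card_conj_set [Finite G] (s : Set G) (N : Subgroup G)
    (hN : ∀ n ∈ N, ∀ x ∈ s, n⁻¹ * x * n ∈ s)
    (hTI : ∀ x ∈ s, ∀ g, g⁻¹ * x * g ∈ s → g ∈ N) :
    Nat.card {y : G // ∃ g : G, g⁻¹ * y * g ∈ s} * Nat.card N = Nat.card G * Nat.card s := by
  classical
  let P := {p : G × G // p.1⁻¹ * p.2 * p.1 ∈ s}
  have h1 : Nat.card P = Nat.card G * Nat.card s := by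
    have e : P ≃ G × s :=
      { toFun := fun p => (p.1.1, ⟨p.1.1⁻¹ * p.1.2 * p.1.1, p.2⟩)
        invFun := fun q => ⟨(q.1, q.1 * (q.2 : G) * q.1⁻¹), by
          have : q.1⁻¹ * (q.1 * (q.2 : G) * q.1⁻¹) * q.1 = (q.2 : G) := by group
          simp only
          rw [this]
          exact q.2.2⟩
        left_inv := by
          rintro ⟨⟨g, x⟩, h⟩
          apply Subtype.ext
          simp only [Prod.mk.injEq, true_and]
          group
        right_inv := by
          rintro ⟨g, ⟨x, hx⟩⟩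
          simp only [Prod.mk.injEq, true_and]
          apply Subtype.ext
          simp only
          group }
    rw [Nat.card_congr e, Nat.card_prod]
  have h2 : Nat.card P = Nat.card {y : G // ∃ g : G, g⁻¹ * y * g ∈ s} * Nat.card N := by
    have e : P ≃ Σ y : {y : G // ∃ g : G, g⁻¹ * y * g ∈ s}, {g : G // g⁻¹ * (y : G) * g ∈ s} :=
      { toFun := fun p => ⟨⟨p.1.2, p.1.1, p.2⟩, ⟨p.1.1, p.2⟩⟩
        invFun := fun s => ⟨(s.2.1, s.1.1), s.2.2⟩
        left_inv := fun p => rfl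
        right_inv := fun s => rfl }
    rw [Nat.card_congr e]
    let hft := Fintype.ofFinite {y : G // ∃ g : G, g⁻¹ * y * g ∈ s}
    rw [Nat.card_sigma]
    have this : ∀ y : {y : G // ∃ g : G, g⁻¹ * y * g ∈ s},
        Nat.card {g : G // g⁻¹ * (y : G) * g ∈ s} = Nat.card N := by
      rintro ⟨y, g₀, hg₀⟩
      apply Nat.card_congr
      refine
        { toFun := fun g => ⟨g₀⁻¹ * g.1, ?_⟩
          invFun := fun n => ⟨g₀ * n.1, ?_⟩
          left_inv := ?_
          right_inv := ?_ }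
      · apply hTI _ hg₀
        have : (g₀⁻¹ * g.1)⁻¹ * (g₀⁻¹ * y * g₀) * (g₀⁻¹ * g.1) = g.1⁻¹ * y * g.1 := by group
        rw [this]
        exact g.2
      · have : (g₀ * n.1)⁻¹ * y * (g₀ * n.1) = n.1⁻¹ * (g₀⁻¹ * y * g₀) * n.1 := by group
        simp only
        rw [this]
        exact hN _ n.2 _ hg₀
      · intro g
        apply Subtype.ext
        simp
      · intro g
        apply Subtype.ext
        simp
    rw [Finset.sum_congr rfl (fun y _ => this y), Finset.sum_const, smul_eq_mul, Finset.card_univ,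
      Fintype.card_eq_nat_card]
  rw [← h2, h1]

/-- the elements of order `i` of a cyclic subgroup -/
theorem card_orderOf_cyclic [Finite G] (C : Subgroup G) (hC : IsCyclic C) {i : ℕ}
    (hi : i ∣ Nat.card C) : Nat.card {x : G | x ∈ C ∧ orderOf x = i} = Nat.totient i := by
  classical
  have := Fintype.ofFinite C
  have h1 := IsCyclic.card_orderOf_eq_totient (α := C) (d := i) (by rwa [← Nat.card_eq_fintype_card])
  rw [← h1, ← Fintype.card_subtype, ← Nat.card_eq_fintype_card]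
  apply Nat.card_congr
  exact
    { toFun := fun x => ⟨⟨x.1, x.2.1⟩, by rw [Subgroup.orderOf_mk]; exact x.2.2⟩
      invFun := fun x => ⟨x.1, x.1.2, (Subgroup.orderOf_coe x.1).trans x.2⟩
      left_inv := fun _ => rfl
      right_inv := fun _ => rfl }

/-- the subgroup generated by an element of order `d` of a finite cyclic group -/
theorem mem_zpowers_iff_of_cyclic {C : Type*} [Group C] [Finite C] (hC : IsCyclic C) (x z : C) :
    z ∈ zpowers x ↔ z ^ orderOf x = 1 := by
  classical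
  have := Fintype.ofFinite C
  have hpos : 0 < orderOf x := orderOf_pos x
  have h1 := IsCyclic.card_pow_eq_one_le (α := C) hpos
  have h2 : (Finset.univ.filter fun a : C => a ∈ zpowers x) ⊆
      (Finset.univ.filter fun a : C => a ^ orderOf x = 1) := by
    intro a ha
    simp only [Finset.mem_filter, Finset.mem_univ, true_and] at ha ⊢
    obtain ⟨k, rfl⟩ := ha
    simp only
    rw [← zpow_natCast, ← zpow_mul, mul_comm, zpow_mul, zpow_natCast, pow_orderOf_eq_one, one_zpow]
  have h3 : (Finset.univ.filter fun a : C => a ∈ zpowers x).card = orderOf x := by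
    rw [← Nat.card_zpowers, ← Fintype.card_subtype, ← Nat.card_eq_fintype_card]
  have h4 := Finset.eq_of_subset_of_card_le h2 (by rw [h3]; exact h1)
  have h5 : z ∈ (Finset.univ.filter fun a : C => a ∈ zpowers x) ↔
      z ∈ (Finset.univ.filter fun a : C => a ^ orderOf x = 1) := by rw [h4]
  simpa using h5

/-- elements of equal order in a cyclic subgroup generate the same subgroup -/
theorem zpowers_eq_of_cyclic [Finite G] {C : Subgroup G} (hC : IsCyclic C) {x y : G} (hx : x ∈ C)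
    (hy : y ∈ C) (h : orderOf x = orderOf y) : zpowers x = zpowers y := by
  have key : ∀ x y : G, x ∈ C → y ∈ C → orderOf x = orderOf y → x ∈ zpowers y := by
    intro x y hx hy h
    have h1 : (⟨x, hx⟩ : C) ∈ zpowers (⟨y, hy⟩ : C) := by
      rw [mem_zpowers_iff_of_cyclic hC]
      apply Subtype.ext
      rw [Subgroup.orderOf_mk, ← h]
      exact pow_orderOf_eq_one x
    obtain ⟨k, hk⟩ := h1
    exact ⟨k, congrArg Subtype.val hk⟩
  apply le_antisymm
  · rw [zpowers_le]; exact key x y hx hy h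
  · rw [zpowers_le]; exact key y x hy hx h.symm

end general

section psl

open Cfsg.Agent.LieRecognition.ReePSL (S L pr pr_surjective pr_eq_iff pr_eq_one_iff)
open Cfsg.Agent.ClassicalGeometry.SLTwoFour (ext2 det2)

variable {K : Type*} [Field K]

/-- the equation `x² = - b c` -/
noncomputable def conePt (K : Type*) [Field K] [DecidableEq K] (p : K × K) :
    {t : K × K × K // t.1 ^ 2 = - (t.2.1 * t.2.2)} :=
  if h : p.1 = 0 then ⟨(0, 0, p.2), by simp⟩
  else ⟨(p.2, p.1, - p.2 ^ 2 / p.1), by simp only; field_simp⟩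

theorem conePt_bijective [DecidableEq K] : Function.Bijective (conePt K) := by
  constructor
  · rintro ⟨b, y⟩ ⟨b', y'⟩ h
    unfold conePt at h
    by_cases hb : b = 0
    · by_cases hb' : b' = 0
      · rw [dif_pos hb, dif_pos hb'] at h
        have := congrArg Subtype.val h
        simp only [Prod.mk.injEq, true_and] at this
        rw [hb, hb', this]
      · rw [dif_pos hb, dif_neg hb'] at h
        have := congrArg Subtype.val h
        simp only [Prod.mk.injEq] at this
        exact absurd this.2.1.symm hb'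
    · by_cases hb' : b' = 0
      · rw [dif_neg hb, dif_pos hb'] at h
        have := congrArg Subtype.val h
        simp only [Prod.mk.injEq] at this
        exact absurd this.2.1 hb
      · rw [dif_neg hb, dif_neg hb'] at h
        have := congrArg Subtype.val h
        simp only [Prod.mk.injEq] at this
        rw [this.1, this.2.1]
  · rintro ⟨⟨x, b, c⟩, h⟩
    simp only at h
    by_cases hb : b = 0
    · refine ⟨(0, c), ?_⟩
      unfold conePt
      rw [dif_pos rfl]
      apply Subtype.ext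
      simp only [Prod.mk.injEq]
      subst hb
      have : x = 0 := by
        rw [zero_mul, neg_zero] at h
        exact pow_eq_zero_iff two_ne_zero |>.1 h
      exact ⟨this.symm, by trivial⟩
    · refine ⟨(b, x), ?_⟩
      unfold conePt
      rw [dif_neg hb]
      apply Subtype.ext
      simp only [Prod.mk.injEq, true_and]
      rw [h]
      field_simp

theorem card_cone [Finite K] : Nat.card {t : K × K × K // t.1 ^ 2 = - (t.2.1 * t.2.2)} = Nat.card K ^ 2 := by
  classical
  rw [← Nat.card_congr (Equiv.ofBijective _ conePt_bijective), Nat.card_prod, pow_two]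

variable [CharP K 3]

theorem pow_three_iff (g : S K) : g ^ 3 = 1 ↔ g 0 0 + g 1 1 = -1 := by
  constructor
  · intro h
    have h1 := ReePSL.trace_cube g
    rw [h] at h1
    have h3 : (3 : K) = 0 := ReePSL.three
    have h2 : ((1 : S K) 0 0 : K) + (1 : S K) 1 1 = 2 := by
      simp only [Matrix.SpecialLinearGroup.coe_one, Matrix.one_apply_eq]
      norm_num
    rw [h2] at h1
    have h4 : (g 0 0 + g 1 1 + 1) ^ 3 = 0 := by
      have := Fact.mk Nat.prime_three
      rw [add_pow_char, ← h1]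
      linear_combination h3
    have h5 := pow_eq_zero_iff (three_ne_zero) |>.1 h4
    linear_combination h5
  · exact ReePSL.pow_three_of_trace g

theorem card_cube_SL [Finite K] : Nat.card {g : S K // g ^ 3 = 1} = Nat.card K ^ 2 := by
  rw [← card_cone]
  have h3 : (3 : K) = 0 := ReePSL.three
  apply Nat.card_congr
  refine
    { toFun := fun g => ⟨(g.1 0 0 - 1, g.1 0 1, g.1 1 0), ?_⟩
      invFun := fun t => ⟨⟨!![1 + t.1.1, t.1.2.1; t.1.2.2, 1 - t.1.1], ?_⟩, ?_⟩
      left_inv := ?_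
      right_inv := ?_ }
  · have h1 := (pow_three_iff g.1).1 g.2
    have h2 := det2 g.1
    simp only
    have h4 : g.1 1 1 = -1 - g.1 0 0 := by linear_combination h1
    rw [h4] at h2
    linear_combination -h2 - g.1 0 0 * h3
  · have h1 := t.2
    rw [Matrix.det_fin_two_of]
    linear_combination -h1
  · apply (pow_three_iff _).2
    change (1 + t.1.1) + (1 - t.1.1) = -1
    linear_combination h3
  · rintro ⟨g, hg⟩
    have h1 := (pow_three_iff g).1 hg
    apply Subtype.ext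
    refine ext2 ?_ ?_ ?_ ?_
    · change 1 + (g 0 0 - 1) = g 0 0
      ring
    · rfl
    · rfl
    · change 1 - (g 0 0 - 1) = g 1 1
      linear_combination h3 - h1
  · rintro ⟨⟨x, b, c⟩, h⟩
    apply Subtype.ext
    change (1 + x - 1, b, c) = (x, b, c)
    simp

theorem card_cube_PSL [Finite K] : Nat.card {g : L K // g ^ 3 = 1} = Nat.card K ^ 2 := by
  rw [← card_cube_SL]
  symm
  apply Nat.card_congr
  refine Equiv.ofBijective (fun g => ⟨pr K g.1, by rw [← map_pow, g.2, map_one]⟩) ⟨?_, ?_⟩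
  · rintro ⟨x, hx⟩ ⟨y, hy⟩ h
    apply Subtype.ext
    rcases (pr_eq_iff x y).1 (congrArg Subtype.val h) with h1 | h1
    · exact h1
    · exfalso
      rw [h1] at hx
      have h2 : (-y) ^ 3 = - y ^ 3 := by
        rw [Odd.neg_pow (by decide)]
      rw [h2, hy] at hx
      exact ReePSL.one_ne_neg_one hx.symm
  · rintro ⟨y, hy⟩
    obtain ⟨x, rfl⟩ := pr_surjective y
    rw [← map_pow, pr_eq_one_iff] at hy
    rcases hy with hy | hy
    · exact ⟨⟨x, hy⟩, rfl⟩
    · refine ⟨⟨-x, ?_⟩, ?_⟩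
      · rw [Odd.neg_pow (by decide), hy, neg_neg]
      · apply Subtype.ext
        exact (pr_eq_iff _ _).2 (Or.inr rfl)

theorem card_orderOf_three_PSL [Finite K] :
    Nat.card {g : L K // orderOf g = 3} = Nat.card K ^ 2 - 1 := by
  classical
  rw [← card_cube_PSL]
  have hfin : Finite {g : L K // g ^ 3 = 1} := inferInstance
  have := Fintype.ofFinite {g : L K // g ^ 3 = 1}
  have h2 : Nat.card {x : {g : L K // g ^ 3 = 1} // x ≠ ⟨1, one_pow 3⟩} =
      Nat.card {g : L K // g ^ 3 = 1} - 1 := by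
    rw [Nat.card_eq_fintype_card, Nat.card_eq_fintype_card, Fintype.card_subtype_compl]
    simp
  rw [← h2]
  apply Nat.card_congr
  have h3 : Fact (Nat.Prime 3) := ⟨Nat.prime_three⟩
  exact
    { toFun := fun g => ⟨⟨g.1, orderOf_dvd_iff_pow_eq_one.1 (dvd_of_eq g.2)⟩, by
        intro h
        have h1 : g.1 = 1 := congrArg Subtype.val h
        have h4 := g.2
        rw [h1, orderOf_one] at h4
        omega⟩
      invFun := fun x => ⟨x.1.1, orderOf_eq_prime x.1.2 (fun h => x.2 (Subtype.ext h))⟩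
      left_inv := fun _ => rfl
      right_inv := fun _ => rfl }

end psl

section arith

variable {q : ℕ}

theorem cop_nine {n : ℕ} (hn : ¬ 3 ∣ n) : Nat.Coprime 9 n := by
  have : (9 : ℕ) = 3 ^ 2 := by norm_num
  rw [this]
  exact Nat.Coprime.pow_left 2 ((Nat.Prime.coprime_iff_not_dvd Nat.prime_three).2 hn)

theorem d3 (ar : Arith q) : (q - 1) / 2 ∣ q - 1 := Nat.div_dvd_of_dvd (by have := ar.q8; omega)

theorem d4 (ar : Arith q) : (q + 1) / 4 ∣ q + 1 := Nat.div_dvd_of_dvd (by have := ar.q8; omega)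

theorem odd3 (ar : Arith q) : Odd ((q - 1) / 2) := by
  rw [Nat.odd_iff]; have := ar.q8; omega

theorem odd4 (ar : Arith q) : Odd ((q + 1) / 4) := by
  rw [Nat.odd_iff]; have := ar.q8; omega

theorem odd5 (ar : Arith q) : Odd (q ^ 2 - q + 1) := by
  rw [← Nat.not_even_iff_odd, even_iff_two_dvd]
  intro h
  exact (ar.prime_Q Nat.prime_two h).1 rfl

theorem c23 (ar : Arith q) : Nat.Coprime 9 ((q - 1) / 2) :=
  cop_nine (fun h => ar.three_not.2.1 (h.trans (d3 ar)))

theorem c24 (ar : Arith q) : Nat.Coprime 9 ((q + 1) / 4) :=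
  cop_nine (fun h => ar.three_not.1 (h.trans (d4 ar)))

theorem c25 (ar : Arith q) : Nat.Coprime 9 (q ^ 2 - q + 1) := cop_nine ar.three_not.2.2.1

theorem c34 (ar : Arith q) : Nat.Coprime ((q - 1) / 2) ((q + 1) / 4) := by
  have h8 := ar.q8
  apply Nat.coprime_of_dvd
  intro p hp h1 h2
  have h3 := Nat.dvd_sub (h2.trans (d4 ar)) (h1.trans (d3 ar))
  have h4 : q + 1 - (q - 1) = 2 := by omega
  rw [h4] at h3
  have h5 := (Nat.prime_dvd_prime_iff_eq hp Nat.prime_two).1 h3
  subst h5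
  have := odd3 ar
  rw [Nat.odd_iff] at this
  omega

theorem c35 (ar : Arith q) : Nat.Coprime ((q - 1) / 2) (q ^ 2 - q + 1) := by
  apply Nat.coprime_of_dvd
  intro p hp h1 h2
  exact (ar.prime_Q hp h2).2.2.2.1 (h1.trans (d3 ar))

theorem c45 (ar : Arith q) : Nat.Coprime ((q + 1) / 4) (q ^ 2 - q + 1) := by
  apply Nat.coprime_of_dvd
  intro p hp h1 h2
  exact (ar.prime_Q hp h2).2.2.2.2 (h1.trans (d4 ar))

/-- `(q - r + 1)(q + r + 1) = q² - q + 1` -/
theorem factor (m : ℕ) : (3 ^ (2 * m + 1) - 3 ^ (m + 1) + 1) * (3 ^ (2 * m + 1) + 3 ^ (m + 1) + 1) =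
    (3 ^ (2 * m + 1)) ^ 2 - 3 ^ (2 * m + 1) + 1 := by
  have h1 : 3 ^ (m + 1) * 3 ^ (m + 1) = 3 * 3 ^ (2 * m + 1) := by
    rw [← pow_add, ← pow_succ']; congr 1; ring
  have h2 : 3 ^ (m + 1) ≤ 3 ^ (2 * m + 1) := Nat.pow_le_pow_right (by norm_num) (by omega)
  have h3 : 3 ^ (2 * m + 1) ≤ (3 ^ (2 * m + 1)) ^ 2 := Nat.le_self_pow two_ne_zero _
  zify [h2, h3]
  zify at h1
  linear_combination -h1

theorem dvd_Q (m : ℕ) : 3 ^ (2 * m + 1) - 3 ^ (m + 1) + 1 ∣ (3 ^ (2 * m + 1)) ^ 2 - 3 ^ (2 * m + 1) + 1 ∧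
    3 ^ (2 * m + 1) + 3 ^ (m + 1) + 1 ∣ (3 ^ (2 * m + 1)) ^ 2 - 3 ^ (2 * m + 1) + 1 := by
  rw [← factor]
  exact ⟨Dvd.intro _ rfl, Dvd.intro_left _ rfl⟩

theorem cop_factor (m : ℕ) : Nat.Coprime (3 ^ (2 * m + 1) - 3 ^ (m + 1) + 1)
    (3 ^ (2 * m + 1) + 3 ^ (m + 1) + 1) := by
  have h2 : 3 ^ (m + 1) ≤ 3 ^ (2 * m + 1) := Nat.pow_le_pow_right (by norm_num) (by omega)
  apply Nat.coprime_of_dvd
  intro p hp h3 h4
  obtain ⟨p2, p3, -⟩ := (ReeClass.arith m).prime_Q hp (h3.trans (dvd_Q m).1)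
  have h5 := Nat.dvd_sub h4 h3
  have h6 : 3 ^ (2 * m + 1) + 3 ^ (m + 1) + 1 - (3 ^ (2 * m + 1) - 3 ^ (m + 1) + 1) = 2 * 3 ^ (m + 1) := by
    omega
  rw [h6, hp.dvd_mul] at h5
  rcases h5 with h5 | h5
  · exact p2 ((Nat.prime_dvd_prime_iff_eq hp Nat.prime_two).1 h5)
  · exact p3 ((Nat.prime_dvd_prime_iff_eq hp Nat.prime_three).1 (hp.dvd_of_dvd_pow h5))

end arith

section abs

variable {G : Type*} [Group G] [Finite G]

/-- counting the elements of order `i` -/
theorem card_order (C N : Subgroup G) (i : ℕ) (hN : ∀ n ∈ N, ∀ x ∈ C, n⁻¹ * x * n ∈ C)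
    (hTI : ∀ x ∈ C, orderOf x = i → ∀ g, g⁻¹ * x * g ∈ C → g ∈ N)
    (hcov : ∀ x : G, orderOf x = i → ∃ g, g⁻¹ * x * g ∈ C) :
    Nat.card {x : G // orderOf x = i} * Nat.card N =
      Nat.card G * Nat.card {x : G | x ∈ C ∧ orderOf x = i} := by
  rw [← card_conj_set {x : G | x ∈ C ∧ orderOf x = i} N]
  · congr 1
    apply Nat.card_congr
    apply Equiv.subtypeEquivRight
    intro x
    constructor
    · intro hx
      obtain ⟨g, hg⟩ := hcov x hx
      exact ⟨g, hg, by rw [orderOf_conj, hx]⟩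
    · rintro ⟨g, -, hg⟩
      rwa [orderOf_conj] at hg
  · rintro n hn x ⟨hx, ho⟩
    exact ⟨hN n hn x hx, by rw [orderOf_conj, ho]⟩
  · rintro x ⟨hx, ho⟩ g ⟨hg, -⟩
    exact hTI x hx ho g hg

/-- `N(C)` controls fusion in a self-centralising abelian TI subgroup -/
theorem mem_normalizer_of_conj {C : Subgroup G} (hc : ∀ x ∈ C, x ≠ 1 → centralizer {x} = C) {x g : G}
    (hx : x ∈ C) (hx1 : x ≠ 1) (hg : g⁻¹ * x * g ∈ C) : g ∈ normalizer (C : Set G) := by
  apply mem_normalizer_of_forall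
  intro y hy
  have h1 : y ∈ centralizer {g⁻¹ * x * g} := by
    rw [hc _ hg (conj_ne hx1 g)]; exact hy
  rw [mem_centralizer_singleton_iff] at h1
  rw [← hc x hx hx1, mem_centralizer_singleton_iff]
  calc g * y * g⁻¹ * x = g * (y * (g⁻¹ * x * g)) * g⁻¹ := by group
    _ = g * ((g⁻¹ * x * g) * y) * g⁻¹ := by rw [h1]
    _ = _ := by group

/-- a cyclic subgroup -/
theorem exists_map_eq {x y : G} {C : Subgroup G} (hC : IsCyclic C) {g₁ g₂ : G}
    (h1 : g₁⁻¹ * x * g₁ ∈ C) (h2 : g₂⁻¹ * y * g₂ ∈ C) (ho : orderOf x = orderOf y) :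
    ∃ g : G, zpowers y = (zpowers x).map (MulAut.conj g).toMonoidHom := by
  have h3 := zpowers_eq_of_cyclic hC h1 h2 (by rw [orderOf_conj, orderOf_conj, ho])
  refine ⟨g₂ * g₁⁻¹, ?_⟩
  rw [MonoidHom.map_zpowers]
  have h4 : (MulAut.conj (g₂ * g₁⁻¹)).toMonoidHom x = (MulAut.conj g₂).toMonoidHom (g₁⁻¹ * x * g₁) := by
    simp only [MulEquiv.coe_toMonoidHom, MulAut.conj_apply]; group
  rw [h4, ← MonoidHom.map_zpowers, h3, MonoidHom.map_zpowers]
  congr 1
  simp only [MulEquiv.coe_toMonoidHom, MulAut.conj_apply]; group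

end abs

section main

variable {K : Type*} [Field K] [Fintype K] {G : Type*} [Group G] [Finite G] {m : ℕ}
  {U : K → K → K → G} {h : Kˣ → G} {n : G}
variable {L : Type*} [Group L] {a : G} {f : L →* G} {i j u t₀ : L} {T : Subgroup L} {q : ℕ}

/-! ### Conjugacy into the tori -/

/-- elements of order dividing `q - 1` -/
theorem conj_hSub (D : ReeAbs.Data m U h n) (hK : Fintype.card K = 3 ^ (2 * m + 1))
    (S : Setup G L (3 ^ (2 * m + 1)) a f i j u t₀ T) {x : G} (hx : 2 < orderOf x)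
    (hd : orderOf x ∣ 3 ^ (2 * m + 1) - 1) : ∃ g, g⁻¹ * x * g ∈ ReeSplit.hSub D := by
  have Dl := ReeSetup.local_of_data D hK
  have ar := ReeClass.arith m
  have h8 := ar.q8
  have hy1 : x ^ 2 ≠ 1 := by
    intro h1
    have := Nat.le_of_dvd (by norm_num) (orderOf_dvd_of_pow_eq_one h1)
    omega
  have hyd : orderOf (x ^ 2) ∣ (3 ^ (2 * m + 1) - 1) / 2 := by
    apply orderOf_dvd_of_pow_eq_one
    rw [← pow_mul]
    have : 2 * ((3 ^ (2 * m + 1) - 1) / 2) = 3 ^ (2 * m + 1) - 1 := by omega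
    rw [this]
    exact orderOf_dvd_iff_pow_eq_one.1 hd
  have hyo : Odd (orderOf (x ^ 2)) := (odd3 ar).of_dvd_nat hyd
  have hxy : x * x ^ 2 = x ^ 2 * x := ((Commute.refl x).pow_right _).eq
  rcases classify Dl ar S hy1 hyo with ⟨g, hg⟩ | ⟨g, hg⟩ | ⟨g, hg⟩ | hg
  · exfalso
    have h1 := orderOf_dvd_of_pow_eq_one (Dl.U_exp _ hg)
    rw [ReeClass.orderOf_conj] at h1
    exact hy1 (eq_one_of_pows h1 hyd (c23 ar))
  · exact ⟨g, Dl.cent_A _ hg (conj_ne hy1 g) _ (conj_comm hxy g)⟩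
  · exfalso
    have h1 := S.A_odd hg
    rw [ReeClass.orderOf_conj] at h1
    exact hy1 (eq_one_of_pows hyd h1 (c34 ar))
  · exfalso
    exact hy1 (eq_one_of_pows hyd hg (c35 ar))

/-- elements of order dividing `(q + 1) / 4` -/
theorem conj_A (D : ReeAbs.Data m U h n) (hK : Fintype.card K = 3 ^ (2 * m + 1))
    (S : Setup G L (3 ^ (2 * m + 1)) a f i j u t₀ T) {x : G} (hx : x ≠ 1)
    (hd : orderOf x ∣ (3 ^ (2 * m + 1) + 1) / 4) : ∃ g, g⁻¹ * x * g ∈ S.A := by
  have Dl := ReeSetup.local_of_data D hK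
  have ar := ReeClass.arith m
  have h8 := ar.q8
  rcases classify Dl ar S hx ((odd4 ar).of_dvd_nat hd) with ⟨g, hg⟩ | ⟨g, hg⟩ | ⟨g, hg⟩ | hg
  · exfalso
    have h1 := orderOf_dvd_of_pow_eq_one (Dl.U_exp _ hg)
    rw [ReeClass.orderOf_conj] at h1
    exact hx (eq_one_of_pows h1 hd (c24 ar))
  · exfalso
    have h1 := orderOf_dvd_natCard (⟨_, hg⟩ : ReeSplit.aSub D)
    rw [Subgroup.orderOf_mk, ReeClass.orderOf_conj, Dl.card_A] at h1
    exact hx (eq_one_of_pows h1 hd (c34 ar))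
  · exact ⟨g, hg⟩
  · exfalso
    exact hx (eq_one_of_pows hd hg (c45 ar))

/-- elements of order twice a divisor of `(q + 1) / 4` -/
theorem conj_EA (D : ReeAbs.Data m U h n) (hK : Fintype.card K = 3 ^ (2 * m + 1))
    (S : Setup G L (3 ^ (2 * m + 1)) a f i j u t₀ T) {x : G} (hx : x ^ 2 ≠ 1)
    (hd : orderOf (x ^ 2) ∣ (3 ^ (2 * m + 1) + 1) / 4) : ∃ g, g⁻¹ * x * g ∈ S.EA := by
  obtain ⟨g, hg⟩ := conj_A D hK S hx hd
  have hxy : x * x ^ 2 = x ^ 2 * x := ((Commute.refl x).pow_right _).eq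
  exact ⟨g, S.cent_x hg (conj_ne hx g) (conj_comm hxy g)⟩

/-! ### Counting -/

/-- involutions -/
theorem card_two (S : Setup G L q a f i j u t₀ T) :
    Nat.card {g : G // orderOf g = 2} * Nat.card (centralizer {a} : Subgroup G) = Nat.card G := by
  have h1 := card_orbit_conj (⊤ : Subgroup G) a
  rw [top_inf_eq, Nat.card_congr (Subgroup.topEquiv (G := G)).toEquiv] at h1
  rw [h1]
  congr 1
  apply Nat.card_congr
  apply Equiv.subtypeEquivRight
  intro y
  constructor
  · intro hy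
    obtain ⟨g, hg⟩ := S.conjG y (by rintro rfl; rw [orderOf_one] at hy; omega)
      (by rw [← pow_two, ← hy, pow_orderOf_eq_one])
    exact ⟨g, mem_top _, hg⟩
  · rintro ⟨g, -, rfl⟩
    have h2 := ReeClass.orderOf_conj a g⁻¹
    rw [inv_inv] at h2
    rw [h2]
    exact orderOf_eq_prime (by rw [pow_two, S.hc.sq]) S.hc.ne_one

/-- elements of order six -/
theorem card_six (S : Setup G L q a f i j u t₀ T) :
    Nat.card {g : G // orderOf g = 6} * Nat.card (centralizer {a} : Subgroup G) =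
      Nat.card G * Nat.card {l : L // orderOf l = 3} := by
  have hoa : orderOf a = 2 := orderOf_eq_prime (by rw [pow_two, S.hc.sq]) S.hc.ne_one
  have haa : a ^ 3 = a := by rw [pow_succ, pow_two, S.hc.sq, one_mul]
  have h1 := card_conj_set {x : G | orderOf x = 6 ∧ x ^ 3 = a} (centralizer {a}) ?_ ?_
  · have h2 : Nat.card {x : G | orderOf x = 6 ∧ x ^ 3 = a} = Nat.card {l : L // orderOf l = 3} := by
      symm
      apply Nat.card_congr
      refine Equiv.ofBijective (fun l => ⟨a * f l.1, ?_⟩) ⟨?_, ?_⟩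
      · obtain ⟨l, hl⟩ := l
        have hcm : Commute a (f l) := S.hc.comm l
        constructor
        · rw [hcm.orderOf_mul_eq_mul_orderOf_of_coprime, hoa, orderOf_injective f S.hc.inj, hl]
          rw [hoa, orderOf_injective f S.hc.inj, hl]
          decide
        · rw [hcm.mul_pow, haa, ← map_pow]
          rw [← hl, pow_orderOf_eq_one, map_one, mul_one]
      · rintro ⟨x, hx⟩ ⟨y, hy⟩ hxy
        apply Subtype.ext
        have := congrArg Subtype.val hxy
        exact S.hc.inj (mul_left_cancel this)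
      · rintro ⟨x, hx, hxa⟩
        have hcx : x * a = a * x := by
          rw [← hxa]; exact ((Commute.refl x).pow_right _).eq
        have h3 : Fact (Nat.Prime 3) := ⟨Nat.prime_three⟩
        obtain ⟨l, hl | hl⟩ := S.hc.surj x hcx
        · exfalso
          apply S.hc.not_mem (l ^ 3)
          rw [map_pow, ← hl, hxa]
        · have hcm : Commute a (f l) := S.hc.comm l
          have h4 : l ^ 3 = 1 := by
            apply S.hc.inj
            rw [map_pow, map_one]
            have h5 : a * f l ^ 3 = a := by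
              rw [hl, hcm.mul_pow, haa] at hxa
              exact hxa
            exact mul_eq_left.1 h5
          refine ⟨⟨l, orderOf_eq_prime h4 ?_⟩, Subtype.ext hl.symm⟩
          rintro rfl
          rw [map_one, mul_one] at hl
          rw [hl, hoa] at hx
          omega
    rw [← h2, ← h1]
    congr 1
    apply Nat.card_congr
    apply Equiv.subtypeEquivRight
    intro y
    constructor
    · intro hy
      have h3 : orderOf (y ^ 3) = 2 := by
        rw [orderOf_pow_of_dvd (by norm_num) (by rw [hy]; norm_num), hy]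
      obtain ⟨g, hg⟩ := S.conjG (y ^ 3) (by intro h4; rw [h4, orderOf_one] at h3; omega)
        (by rw [← pow_two, ← h3, pow_orderOf_eq_one])
      refine ⟨g, ?_, ?_⟩
      · rw [ReeClass.orderOf_conj, hy]
      · have := conj_pow (i := 3) (a := g⁻¹) (b := y)
        rw [inv_inv] at this
        rw [this, ← hg]; group
    · rintro ⟨g, hg, -⟩
      rwa [ReeClass.orderOf_conj] at hg
  · rintro c hc x ⟨hx, hxa⟩
    rw [mem_centralizer_singleton_iff] at hc
    refine ⟨by rw [ReeClass.orderOf_conj, hx], ?_⟩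
    have := conj_pow (i := 3) (a := c⁻¹) (b := x)
    rw [inv_inv] at this
    rw [this, hxa]
    calc c⁻¹ * a * c = c⁻¹ * (a * c) := by group
      _ = c⁻¹ * (c * a) := by rw [hc]
      _ = a := by group
  · rintro x ⟨hx, hxa⟩ g ⟨-, hg⟩
    have := conj_pow (i := 3) (a := g⁻¹) (b := x)
    rw [inv_inv] at this
    rw [this, hxa] at hg
    rw [mem_centralizer_singleton_iff]
    calc g * a = g * (g⁻¹ * a * g) := by rw [hg]
      _ = a * g := by group

/-- elements of order `9` of `U` -/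
theorem card_nine_uSub (D : ReeAbs.Data m U h n) (hK : Fintype.card K = 3 ^ (2 * m + 1)) :
    Nat.card {x : G | x ∈ ReeSylowThree.uSub D ∧ orderOf x = 9} =
      (3 ^ (2 * m + 1) - 1) * (3 ^ (2 * m + 1)) ^ 2 := by
  have h3 : Fact (Nat.Prime 3) := ⟨Nat.prime_three⟩
  have e : Kˣ × K × K ≃ {x : G | x ∈ ReeSylowThree.uSub D ∧ orderOf x = 9} := by
    refine Equiv.ofBijective (fun p => ⟨U p.1 p.2.1 p.2.2, ⟨_, _, _, rfl⟩, ?_⟩) ⟨?_, ?_⟩
    · obtain ⟨t, u, v⟩ := p
      rw [show 9 = 3 ^ (1 + 1) by norm_num]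
      apply orderOf_eq_prime_pow
      · rw [pow_one, ReeSplit.U_cube D hK, ← D.U_zero]
        intro he
        have h4 := (ReeSylowThree.U_injective D he).2.2
        have h5 := neg_eq_zero.mp h4
        exact mul_ne_zero (pow_ne_zero _ t.ne_zero) (pow_ne_zero _ t.ne_zero) h5
      · exact ReeSplit.pow_nine D hK ⟨_, _, _, rfl⟩
    · rintro ⟨t, u, v⟩ ⟨t', u', v'⟩ hxy
      obtain ⟨h1, h2, h4⟩ := ReeSylowThree.U_injective D (congrArg Subtype.val hxy)
      rw [Prod.mk.injEq, Prod.mk.injEq]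
      exact ⟨Units.ext h1, h2, h4⟩
    · rintro ⟨x, ⟨t, u, v, rfl⟩, hx⟩
      have ht : t ≠ 0 := by
        rintro rfl
        have h4 : U 0 u v ^ 3 = 1 := by
          rw [ReeSplit.U_cube D hK]
          simp [D.U_zero]
        have h5 := orderOf_dvd_of_pow_eq_one h4
        rw [hx] at h5
        exact absurd h5 (by norm_num)
      exact ⟨(Units.mk0 t ht, u, v), rfl⟩
  rw [← Nat.card_congr e, Nat.card_prod, Nat.card_prod, Nat.card_units, Nat.card_eq_fintype_card, hK, pow_two]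

/-- elements of order `3` of `U` -/
theorem card_three_uSub (D : ReeAbs.Data m U h n) (hK : Fintype.card K = 3 ^ (2 * m + 1)) :
    Nat.card {x : G | x ∈ ReeSylowThree.uSub D ∧ orderOf x = 3} = (3 ^ (2 * m + 1)) ^ 2 - 1 := by
  classical
  have h3 : Fact (Nat.Prime 3) := ⟨Nat.prime_three⟩
  have hcube : ∀ u v : K, U 0 u v ^ 3 = 1 := by
    intro u v
    rw [ReeSplit.U_cube D hK]
    simp [D.U_zero]
  have e : {p : K × K // p ≠ 0} ≃ {x : G | x ∈ ReeSylowThree.uSub D ∧ orderOf x = 3} := by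
    refine Equiv.ofBijective (fun p => ⟨U 0 p.1.1 p.1.2, ⟨_, _, _, rfl⟩, ?_⟩) ⟨?_, ?_⟩
    · obtain ⟨⟨u, v⟩, hp⟩ := p
      apply orderOf_eq_prime (hcube u v)
      intro he
      rw [← D.U_zero] at he
      obtain ⟨-, h1, h2⟩ := ReeSylowThree.U_injective D he
      apply hp
      rw [h1, h2]; rfl
    · rintro ⟨⟨u, v⟩, hp⟩ ⟨⟨u', v'⟩, hp'⟩ hxy
      obtain ⟨-, h1, h2⟩ := ReeSylowThree.U_injective D (congrArg Subtype.val hxy)
      apply Subtype.ext
      rw [Prod.mk.injEq]
      exact ⟨h1, h2⟩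
    · rintro ⟨x, ⟨t, u, v, rfl⟩, hx⟩
      have ht : t = 0 := by
        by_contra ht
        have h4 : U t u v ^ 3 = 1 := by rw [← hx, pow_orderOf_eq_one]
        rw [ReeSplit.U_cube D hK, ← D.U_zero] at h4
        have h5 := neg_eq_zero.mp (ReeSylowThree.U_injective D h4).2.2
        exact mul_ne_zero (pow_ne_zero _ ht) (pow_ne_zero _ ht) h5
      subst ht
      refine ⟨⟨(u, v), ?_⟩, rfl⟩
      intro h0
      rw [Prod.mk_eq_zero] at h0
      rw [h0.1, h0.2, D.U_zero, orderOf_one] at hx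
      omega
  rw [← Nat.card_congr e, Nat.card_eq_fintype_card, Fintype.card_subtype_compl, Fintype.card_prod,
    Fintype.card_subtype_eq, hK, pow_two]

/-- `|E A| = q + 1` -/
theorem card_EA (S : Setup G L q a f i j u t₀ T) : Nat.card S.EA = q + 1 := by
  have h8 := S.q8
  have e : S.V × S.A ≃ S.EA := by
    refine Equiv.ofBijective (fun p => ⟨p.1.1 * p.2.1, p.1.1, p.1.2, p.2.1, p.2.2, rfl⟩) ⟨?_, ?_⟩
    · rintro ⟨⟨e, he⟩, ⟨r, hr⟩⟩ ⟨⟨e', he'⟩, ⟨r', hr'⟩⟩ hxy
      have h1 : e * r = e' * r' := congrArg Subtype.val hxy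
      have h2 : e'⁻¹ * e = r' * r⁻¹ := by
        rw [eq_mul_inv_iff_mul_eq, mul_assoc, h1]; group
      have h3 : e'⁻¹ * e ∈ S.A := by rw [h2]; exact S.A.mul_mem hr' (S.A.inv_mem hr)
      have h4 : e'⁻¹ * e = 1 := by
        by_contra h5
        exact S.ne_sq h3 h5 (S.V_sq (S.V.mul_mem (S.V.inv_mem he') he))
      have h5 : e = e' := (inv_mul_eq_one.1 h4).symm
      subst h5
      have h6 : r = r' := mul_left_cancel h1
      subst h6
      rfl
    · rintro ⟨x, e, he, r, hr, rfl⟩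
      exact ⟨(⟨e, he⟩, ⟨r, hr⟩), rfl⟩
  rw [← Nat.card_congr e, Nat.card_prod, S.card_V, S.card_A]
  omega

/-- elements of order `2 k` in `E A` -/
theorem card_EA_order (S : Setup G L q a f i j u t₀ T) {k : ℕ} (hk : k ∣ (q + 1) / 4) :
    Nat.card {x : G | x ∈ S.EA ∧ orderOf x = 2 * k} = 3 * Nat.totient k := by
  classical
  have hko : Odd k := S.s_odd.of_dvd_nat hk
  have hV : Nat.card {e : S.V // e ≠ 1} = 3 := by
    have hf := Fintype.ofFinite S.V
    have h1 := S.card_V
    rw [Nat.card_eq_fintype_card] at h1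
    rw [Nat.card_eq_fintype_card, Fintype.card_subtype_compl, h1]
    simp
  rw [← card_orderOf_cyclic S.A S.cyclic_A (by rw [S.card_A]; exact hk), ← hV, ← Nat.card_prod]
  symm
  apply Nat.card_congr
  have hord : ∀ e ∈ S.V, e ≠ 1 → ∀ r ∈ S.A, orderOf (e * r) = 2 * orderOf r := by
    intro e he he1 r hr
    have h2 : orderOf e = 2 := orderOf_eq_prime (by rw [pow_two, S.V_sq he]) he1
    have hcm : Commute e r := (S.A_comm_V hr he).symm
    rw [hcm.orderOf_mul_eq_mul_orderOf_of_coprime, h2]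
    rw [h2, Nat.coprime_two_left]
    exact S.odd_of_mem_A hr
  refine Equiv.ofBijective (fun p => ⟨p.1.1 * p.2.1, ⟨p.1.1, p.1.1.2, p.2.1, p.2.2.1, rfl⟩, ?_⟩) ⟨?_, ?_⟩
  · obtain ⟨⟨⟨e, he⟩, he1⟩, ⟨r, hr, hro⟩⟩ := p
    rw [hord e he (fun h => he1 (Subtype.ext h)) r hr, hro]
  · rintro ⟨⟨⟨e, he⟩, he1⟩, ⟨r, hr, hro⟩⟩ ⟨⟨⟨e', he'⟩, he1'⟩, ⟨r', hr', hro'⟩⟩ hxy
    have h1 : e * r = e' * r' := congrArg Subtype.val hxy
    have h2 : e'⁻¹ * e = r' * r⁻¹ := by
      rw [eq_mul_inv_iff_mul_eq, mul_assoc, h1]; group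
    have h3 : e'⁻¹ * e ∈ S.A := by rw [h2]; exact S.A.mul_mem hr' (S.A.inv_mem hr)
    have h4 : e'⁻¹ * e = 1 := by
      by_contra h5
      exact S.ne_sq h3 h5 (S.V_sq (S.V.mul_mem (S.V.inv_mem he') he))
    have h5 : e = e' := (inv_mul_eq_one.1 h4).symm
    subst h5
    have h6 : r = r' := mul_left_cancel h1
    subst h6
    rfl
  · rintro ⟨x, ⟨e, he, r, hr, rfl⟩, hx⟩
    have he1 : e ≠ 1 := by
      rintro rfl
      rw [one_mul] at hx
      have h2 := S.odd_of_mem_A hr
      rw [hx] at h2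
      exact absurd h2 (by rw [Nat.not_odd_iff_even]; exact even_two_mul k)
    rw [hord e he he1 r hr] at hx
    exact ⟨(⟨⟨e, he⟩, fun h => he1 (congrArg Subtype.val h)⟩, ⟨r, hr, by omega⟩), rfl⟩

/-- the index of `U` is prime to `3` -/
theorem conj_uSub (D : ReeAbs.Data m U h n) (hK : Fintype.card K = 3 ^ (2 * m + 1)) {x : G} {k : ℕ}
    (hx : orderOf x = 3 ^ k) : ∃ g, g⁻¹ * x * g ∈ ReeSylowThree.uSub D := by
  have h3 : Fact (Nat.Prime 3) := ⟨Nat.prime_three⟩
  apply ReeGeneric.exists_conj_mem (p := 3) _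
    (ReeClass.index_U (ReeSetup.local_of_data D hK) (ReeClass.arith m))
  apply IsPGroup.of_card (n := k)
  rw [Nat.card_zpowers, hx]

theorem card_pow_three (D : ReeAbs.Data m U h n) (hK : Fintype.card K = 3 ^ (2 * m + 1)) {k : ℕ}
    (hk : 0 < k) : Nat.card {x : G // orderOf x = 3 ^ k} * Nat.card (ReeSplit.bSub D) =
      Nat.card G * Nat.card {x : G | x ∈ ReeSylowThree.uSub D ∧ orderOf x = 3 ^ k} := by
  apply card_order
  · exact fun _ hg _ hx => ReeSplit.inv_conj_mem_uSub D hg hx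
  · intro x hx ho g hg
    refine ReeSplit.mem_bSub_of_inv_conj_mem D hx ?_ hg
    rintro rfl
    rw [orderOf_one] at ho
    have : 3 ^ 1 ≤ 3 ^ k := Nat.pow_le_pow_right (by norm_num) hk
    omega
  · intro x hx
    exact conj_uSub D hK hx

theorem card_split (D : ReeAbs.Data m U h n) (hK : Fintype.card K = 3 ^ (2 * m + 1))
    (S : Setup G L (3 ^ (2 * m + 1)) a f i j u t₀ T) {k : ℕ} (hk : 2 < k)
    (hd : k ∣ 3 ^ (2 * m + 1) - 1) : Nat.card {x : G // orderOf x = k} * (2 * (3 ^ (2 * m + 1) - 1)) =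
      Nat.card G * Nat.totient k := by
  rw [← card_orderOf_cyclic (ReeSplit.hSub D) (ReeSplit.isCyclic_hSub D)
    (by rw [ReeSplit.card_hSub D, hK]; exact hd), ← hK, ← ReeSplit.card_nSub D]
  apply card_order
  · exact fun _ hg _ hx => ReeSplit.inv_conj_mem_of_mem_nSub D le_rfl hg hx
  · intro x hx ho g hg
    obtain ⟨c, rfl⟩ := (ReeSplit.mem_hSub D).1 hx
    obtain ⟨b, hb⟩ := (ReeSplit.mem_hSub D).1 hg
    refine ReeSplit.mem_nSub_of_conj D hK (a := c) (b := b) ?_ ?_
    · intro h2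
      have h3 : (h c) ^ 2 = 1 := by rw [← ReeSplit.h_pow D, h2, D.h_one]
      have := Nat.le_of_dvd (by norm_num) (orderOf_dvd_of_pow_eq_one h3)
      omega
    · rw [← hb]; group
  · intro x hx
    exact conj_hSub D hK S (by rw [hx]; exact hk) (by rw [hx]; exact hd)

theorem card_quarter (D : ReeAbs.Data m U h n) (hK : Fintype.card K = 3 ^ (2 * m + 1))
    (S : Setup G L (3 ^ (2 * m + 1)) a f i j u t₀ T) {k : ℕ} (hk : 1 < k)
    (hd : k ∣ (3 ^ (2 * m + 1) + 1) / 4) :
    Nat.card {x : G // orderOf x = k} * (6 * (3 ^ (2 * m + 1) + 1)) = Nat.card G * Nat.totient k := by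
  rw [← card_orderOf_cyclic S.A S.cyclic_A (by rw [S.card_A]; exact hd), ← S.card_N]
  apply card_order
  · exact fun n hn x hx => S.N_norm_A hn hx
  · intro x hx ho g hg
    refine S.TI hx ?_ hg
    rintro rfl
    rw [orderOf_one] at ho
    omega
  · intro x hx
    refine conj_A D hK S ?_ (by rw [hx]; exact hd)
    rintro rfl
    rw [orderOf_one] at hx
    omega

theorem card_quarter_two (D : ReeAbs.Data m U h n) (hK : Fintype.card K = 3 ^ (2 * m + 1))
    (S : Setup G L (3 ^ (2 * m + 1)) a f i j u t₀ T) {k : ℕ} (hk : 1 < k)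
    (hd : k ∣ (3 ^ (2 * m + 1) + 1) / 4) :
    Nat.card {x : G // orderOf x = 2 * k} * (6 * (3 ^ (2 * m + 1) + 1)) =
      Nat.card G * (3 * Nat.totient k) := by
  have hsq : ∀ x : G, orderOf x = 2 * k → orderOf (x ^ 2) = k := by
    intro x hx
    rw [orderOf_pow_of_dvd two_ne_zero (by rw [hx]; exact Dvd.intro _ rfl), hx,
      Nat.mul_div_cancel_left _ (by norm_num)]
  have hne : ∀ x : G, orderOf x = 2 * k → x ^ 2 ≠ 1 := by
    intro x hx h1
    have := hsq x hx
    rw [h1, orderOf_one] at this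
    omega
  have hko : Odd k := S.s_odd.of_dvd_nat hd
  rw [← card_EA_order S hd, ← S.card_N]
  apply card_order
  · exact fun n hn x hx => S.N_norm_EA hn hx
  · intro x hx ho g hg
    have h1 : x ^ 2 ∈ S.A := S.odd_EA (S.EA.pow_mem hx 2) (by rw [hsq x ho]; exact hko)
    have h2 := conj_pow (i := 2) (a := g⁻¹) (b := x)
    rw [inv_inv] at h2
    have h3 : g⁻¹ * x ^ 2 * g ∈ S.A := by
      rw [← h2]
      apply S.odd_EA (S.EA.pow_mem hg 2)
      rw [h2, ReeClass.orderOf_conj, hsq x ho]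
      exact hko
    exact S.TI h1 (hne x ho) h3
  · intro x hx
    exact conj_EA D hK S (hne x hx) (by rw [hsq x hx]; exact hd)

/-- self-centralising tori -/
theorem card_torus {C : Subgroup G} (hC : IsCyclic C) (hc : ∀ x ∈ C, x ≠ 1 → centralizer {x} = C)
    {k : ℕ} (hk : 1 < k) (hd : k ∣ Nat.card C) (hcov : ∀ x : G, orderOf x = k → ∃ g, g⁻¹ * x * g ∈ C) :
    Nat.card {x : G // orderOf x = k} * Nat.card (normalizer (C : Set G)) =
      Nat.card G * Nat.totient k := by
  rw [← card_orderOf_cyclic C hC hd]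
  apply card_order
  · intro g hg x hx
    have := (mem_normalizer_iff.1 ((normalizer (C : Set G)).inv_mem hg) x).1 hx
    rwa [inv_inv] at this
  · intro x hx ho g hg
    refine mem_normalizer_of_conj hc hx ?_ hg
    rintro rfl
    rw [orderOf_one] at ho
    omega
  · exact hcov

end main

end Cfsg.Agent.H125.ReeFull
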