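import Mathlib
import Cfsg.Prelude.Def_OddOrderLocal
import Cfsg.Agent.Lib.Cores
import Cfsg.Agent.S0044
import Cfsg.Agent.H125.ReeFull
set_option linter.all false

/-!
# Solvable subgroups of the small Ree groups
-/

set_option autoImplicit false
set_option linter.unusedSectionVars false

namespace Cfsg.Agent.H125.ReeSolv

open Subgroup
open Cfsg.Agent.LieRecognition
open Cfsg.Agent.LieRecognition.ReeInv
open Cfsg.Agent.LieRecognition.ReeTorusB
open Cfsg.Agent.LieRecognition.ReeClass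
open Cfsg.Agent.H125.ReeFull

/-- a finite solvable group has a non-trivial normal `r`-subgroup with `r` odd, or `C(O_2) ≤ O_2` -/
theorem solvable_cases (H : Type*) [Group H] [Finite H] [Group.IsSolvable H] :
    (∃ r : ℕ, r.Prime ∧ r ≠ 2 ∧ Cfsg.pCore r H ≠ ⊥) ∨
      centralizer (Cfsg.pCore 2 H : Set H) ≤ Cfsg.pCore 2 H := by
  by_cases h : ∃ r : ℕ, r.Prime ∧ r ≠ 2 ∧ Cfsg.pCore r H ≠ ⊥
  · exact Or.inl h
  · right
    push Not at h
    have hF : Cfsg.fittingSubgroup H ≤ Cfsg.pCore 2 H := by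
      rw [Cfsg.Agent.Lib.Cores.fittingSubgroup_eq_iSup_pCore]
      refine iSup_le fun r => ?_
      by_cases hr : (r : ℕ) = 2
      · rw [hr]
      · rw [h r r.2 hr]; exact bot_le
    have h1 := Cfsg.Agent.S0044.centralizer_fitting_le H
      (Cfsg.Agent.Lib.Cores.fittingSubgroup_normal (G := H))
    exact (centralizer_le hF).trans (h1.trans hF)

section general

variable {G : Type*} [Group G]

theorem mem_map_conj (C : Subgroup G) (g z : G) :
    z ∈ C.map (MulAut.conj g).toMonoidHom ↔ g⁻¹ * z * g ∈ C := by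
  rw [Subgroup.mem_map]
  constructor
  · rintro ⟨c, hc, rfl⟩
    have : g⁻¹ * (MulAut.conj g).toMonoidHom c * g = c := by
      simp only [MulEquiv.coe_toMonoidHom, MulAut.conj_apply]; group
    rw [this]; exact hc
  · intro hz
    refine ⟨_, hz, ?_⟩
    simp only [MulEquiv.coe_toMonoidHom, MulAut.conj_apply]; group

theorem card_map_conj (C : Subgroup G) (g : G) :
    Nat.card (C.map (MulAut.conj g).toMonoidHom) = Nat.card C :=
  Nat.card_congr (C.equivMapOfInjective _ (MulAut.conj g).injective).symm.toEquiv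

theorem isCyclic_map_conj (C : Subgroup G) (g : G) (hC : IsCyclic C) :
    IsCyclic (C.map (MulAut.conj g).toMonoidHom) :=
  isCyclic_of_surjective _ (C.equivMapOfInjective
        (MulAut.conj g).toMonoidHom (MulAut.conj g).injective).surjective

/-- a subgroup normalising a non-trivial `r`-subgroup meeting a TI subgroup -/
theorem le_normalizer_of_TI [Finite G] {C R S : Subgroup G}
    (hcent : ∀ x ∈ C, x ≠ 1 → ∀ y, y * x = x * y → Odd (orderOf y) → y ∈ C)
    (hTI : ∀ x ∈ C, x ≠ 1 → ∀ g, g⁻¹ * x * g ∈ C → ∀ y ∈ C, g⁻¹ * y * g ∈ C)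
    (hR : ∀ y ∈ R, Odd (orderOf y)) (hSR : ∀ s ∈ S, ∀ x ∈ R, s⁻¹ * x * s ∈ R) {z g : G} (hz : z ∈ R)
    (hz1 : z ≠ 1) (hzc : ∀ y ∈ R, y * z = z * y) (hg : g⁻¹ * z * g ∈ C) :
    S ≤ normalizer ((C.map (MulAut.conj g).toMonoidHom : Subgroup G) : Set G) := by
  have hRC : ∀ y ∈ R, g⁻¹ * y * g ∈ C := fun y hy =>
    hcent _ hg (conj_ne hz1 g) _ (conj_comm (hzc y hy) g) (by rw [ReeClass.orderOf_conj]; exact hR y hy)
  have key : ∀ s ∈ S, ∀ y ∈ C.map (MulAut.conj g).toMonoidHom, s⁻¹ * y * s ∈ C.map (MulAut.conj g).toMonoidHom := by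
    intro s hs y hy
    rw [mem_map_conj] at hy ⊢
    have h1 : (g⁻¹ * s * g)⁻¹ * (g⁻¹ * z * g) * (g⁻¹ * s * g) ∈ C := by
      have := hRC _ (hSR s hs z hz)
      have h2 : (g⁻¹ * s * g)⁻¹ * (g⁻¹ * z * g) * (g⁻¹ * s * g) = g⁻¹ * (s⁻¹ * z * s) * g := by group
      rwa [h2]
    have h3 := hTI _ hg (conj_ne hz1 g) _ h1 _ hy
    have h4 : (g⁻¹ * s * g)⁻¹ * (g⁻¹ * y * g) * (g⁻¹ * s * g) = g⁻¹ * (s⁻¹ * y * s) * g := by group
    rwa [h4] at h3
  intro s hs
  apply mem_normalizer_of_forall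
  intro y hy
  have := key s⁻¹ (S.inv_mem hs) y hy
  rwa [inv_inv] at this

/-- a central element of a non-trivial `r`-subgroup -/
theorem exists_central [Finite G] {r : ℕ} [Fact r.Prime] {R : Subgroup G} (hR : IsPGroup r R) (h1 : R ≠ ⊥) :
    ∃ z ∈ R, z ≠ 1 ∧ ∀ y ∈ R, y * z = z * y := by
  have hnt : Nontrivial R := (Subgroup.nontrivial_iff_ne_bot R).2 h1
  have := hR.center_nontrivial
  obtain ⟨⟨⟨z, hz⟩, hzc⟩, hz1⟩ := exists_ne (1 : center R)
  refine ⟨z, hz, ?_, ?_⟩
  · intro h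
    apply hz1
    exact Subtype.ext (Subtype.ext h)
  · intro y hy
    exact congrArg Subtype.val (mem_center_iff.1 hzc ⟨y, hy⟩)

end general

section main

variable {K : Type*} [Field K] [Fintype K] {G : Type*} [Group G] [Finite G] {m : ℕ}
  {U : K → K → K → G} {h : Kˣ → G} {n : G}
variable {L : Type*} [Group L] {a : G} {f : L →* G} {i j u t₀ : L} {T : Subgroup L} {q : ℕ}

/-- four-groups are conjugate -/
theorem four_conj (S : Setup G L q a f i j u t₀ T) {E : Subgroup G} (hE : Nat.card E = 4)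
    (h2 : ∀ x ∈ E, x * x = 1) : ∃ g : G, E = S.V.map (MulAut.conj g).toMonoidHom := by
  have hne : E ≠ ⊥ := by
    rintro rfl
    rw [Subgroup.card_bot] at hE
    omega
  obtain ⟨⟨e, he⟩, he1'⟩ := Subgroup.ne_bot_iff_exists_ne_one.1 hne
  have he1 : e ≠ 1 := fun h => he1' (Subtype.ext h)
  obtain ⟨g, hg⟩ := S.conjG e he1 (h2 e he)
  have hinv : ∀ x ∈ E, x⁻¹ = x := fun x hx => inv_eq_of_mul_eq_one_left (h2 x hx)
  have hcomm : ∀ x ∈ E, ∀ y ∈ E, x * y = y * x := by
    intro x hx y hy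
    calc x * y = (x * y)⁻¹ := (hinv _ (E.mul_mem hx hy)).symm
      _ = y * x := by rw [mul_inv_rev, hinv x hx, hinv y hy]
  -- a further element
  have h3 : ∃ y ∈ E, y ≠ 1 ∧ y ≠ e := by
    by_contra hcon
    push Not at hcon
    have h4 : E ≤ zpowers e := by
      intro y hy
      by_cases hy1 : y = 1
      · rw [hy1]; exact one_mem _
      · rw [hcon y hy hy1]; exact mem_zpowers e
    have h5 := Nat.le_of_dvd (Nat.card_pos) (Subgroup.card_dvd_of_le h4)
    have h6 : orderOf e = 2 := orderOf_eq_prime (by rw [pow_two, h2 e he]) he1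
    rw [hE, Nat.card_zpowers, h6] at h5
    omega
  obtain ⟨y, hy, hy1, hye⟩ := h3
  -- conjugate into `C(a)`
  have hga : g⁻¹ * e * g = a := by rw [← hg]; group
  have hy' : (g⁻¹ * y * g) * a = a * (g⁻¹ * y * g) := by
    rw [← hga]
    exact conj_comm (hcomm y hy e he) g
  have hyy : (g⁻¹ * y * g) * (g⁻¹ * y * g) = 1 := by
    calc (g⁻¹ * y * g) * (g⁻¹ * y * g) = g⁻¹ * (y * y) * g := by group
      _ = 1 := by rw [h2 y hy]; group
  obtain ⟨l, hl⟩ := S.hc.surj _ hy'
  have hla : f l * a = a * f l := (S.hc.comm l).symm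
  have hl1 : l ≠ 1 := by
    rintro rfl
    rw [map_one, mul_one] at hl
    rcases hl with hl | hl
    · exact conj_ne hy1 g hl
    · apply hye
      have : g⁻¹ * y * g = g⁻¹ * e * g := by rw [hl, hga]
      exact mul_left_cancel (mul_right_cancel this)
  have hll : l * l = 1 := by
    apply S.hc.inj
    rw [map_mul, map_one]
    rcases hl with hl | hl
    · rw [← hl]; exact hyy
    · rw [hl] at hyy
      calc f l * f l = (a * a) * (f l * f l) := by rw [S.hc.sq, one_mul]
        _ = a * (a * f l) * f l := by group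
        _ = a * (f l * a) * f l := by rw [hla]
        _ = (a * f l) * (a * f l) := by group
        _ = 1 := hyy
  obtain ⟨k, hk⟩ := S.conjL l hl1 hll
  refine ⟨g * f k, ?_⟩
  have hka : f k * a = a * f k := (S.hc.comm k).symm
  have hmem : ∀ v ∈ S.V, (g * f k) * v * (g * f k)⁻¹ ∈ E := by
    have e1 : (g * f k) * a * (g * f k)⁻¹ = e := by
      calc (g * f k) * a * (g * f k)⁻¹ = g * (f k * a) * (f k)⁻¹ * g⁻¹ := by group
        _ = g * a * g⁻¹ := by rw [hka]; group
        _ = e := hg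
    have e2 : (g * f k) * f i * (g * f k)⁻¹ ∈ E := by
      have e3 : (g * f k) * f i * (g * f k)⁻¹ = g * f l * g⁻¹ := by
        rw [← hk, map_mul, map_mul, map_inv]; group
      rw [e3]
      rcases hl with hl | hl
      · rw [← hl]
        have : g * (g⁻¹ * y * g) * g⁻¹ = y := by group
        rw [this]; exact hy
      · have h7 : f l = a * (g⁻¹ * y * g) := by
          rw [hl, ← mul_assoc, S.hc.sq, one_mul]
        rw [h7, ← hga]
        have : g * (g⁻¹ * e * g * (g⁻¹ * y * g)) * g⁻¹ = e * y := by group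
        rw [this]; exact E.mul_mem he hy
    intro v hv
    rw [S.mem_V] at hv
    rcases hv with rfl | rfl | rfl | rfl
    · rw [mul_one, mul_inv_cancel]; exact E.one_mem
    · rw [e1]; exact he
    · exact e2
    · have : (g * f k) * (a * f i) * (g * f k)⁻¹ =
        ((g * f k) * a * (g * f k)⁻¹) * ((g * f k) * f i * (g * f k)⁻¹) := by group
      rw [this, e1]; exact E.mul_mem he e2
  symm
  apply Subgroup.eq_of_le_of_card_ge
  · rintro _ ⟨v, hv, rfl⟩
    exact hmem v hv
  · rw [card_map_conj, S.card_V, hE]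

/-- the order of the Sylow `2`-subgroups -/
theorem card_sylow_two {A B H N V : Subgroup G} (D : Local G q V B H A N) (ar : Arith q) (P : Sylow 2 G) :
    Nat.card P = 8 := by
  have h8 := ar.q8
  obtain ⟨k, hk⟩ : ∃ k, q = 8 * k + 3 := ⟨q / 8, by omega⟩
  have h1 := D.card_G
  rw [ar.cube] at h1
  have h2 : q - 1 = 2 * (4 * k + 1) := by omega
  have h3 : q + 1 = 4 * (2 * k + 1) := by omega
  have h4 : Odd (q ^ 2 - q + 1) := odd5 ar
  have h5 : Nat.card G = 8 * (q ^ 3 * (4 * k + 1) * (2 * k + 1) * (q ^ 2 - q + 1)) := by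
    rw [h1, h2, h3]; ring
  have hodd : Odd (q ^ 3 * (4 * k + 1) * (2 * k + 1) * (q ^ 2 - q + 1)) := by
    have hq : Odd q := by rw [Nat.odd_iff]; omega
    have hk1 : Odd (4 * k + 1) := by rw [Nat.odd_iff]; omega
    have hk2 : Odd (2 * k + 1) := by rw [Nat.odd_iff]; omega
    exact ((hq.pow.mul hk1).mul hk2).mul h4
  have : Fact (Nat.Prime 2) := ⟨Nat.prime_two⟩
  obtain ⟨l, hl⟩ := P.isPGroup'.exists_card_eq
  have hPi : ¬ 2 ∣ (P : Subgroup G).index := P.not_dvd_index
  have h6 := (P : Subgroup G).card_mul_index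
  rw [h5] at h6
  apply Nat.dvd_antisymm
  · have h7 : Nat.card P ∣ 8 * (q ^ 3 * (4 * k + 1) * (2 * k + 1) * (q ^ 2 - q + 1)) := ⟨_, h6.symm⟩
    refine Nat.Coprime.dvd_of_dvd_mul_right ?_ h7
    rw [hl]
    exact Nat.Coprime.pow_left _ (Nat.coprime_two_left.2 hodd)
  · have h7 : 8 ∣ Nat.card P * (P : Subgroup G).index := ⟨_, h6⟩
    refine Nat.Coprime.dvd_of_dvd_mul_right ?_ h7
    rw [show (8 : ℕ) = 2 ^ 3 by norm_num]
    exact Nat.Coprime.pow_left _ ((Nat.Prime.coprime_iff_not_dvd Nat.prime_two).2 hPi)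

/-- S2361 -/
theorem solvable_le (D : ReeAbs.Data m U h n) (hm : 1 ≤ m) (hK : Fintype.card K = 3 ^ (2 * m + 1))
    (hG : commutator G = ⊤)
    (hcyc : ∀ x : G, x ≠ 1 → orderOf x ∣ (3 ^ (2 * m + 1)) ^ 2 - 3 ^ (2 * m + 1) + 1 →
      IsCyclic (centralizer {x}) ∧
        Nat.card (normalizer (centralizer {x} : Set G)) ∣ 6 * Nat.card (centralizer {x}))
    (X : Subgroup G) (hX : Group.IsSolvable X) :
    ∃ A : Subgroup G, X ≤ normalizer (A : Set G) ∧
      ((∃ P : Sylow 2 G, A = P) ∨ (∃ P : Sylow 3 G, A = P) ∨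
       (IsCyclic A ∧ (Nat.card A = (3 ^ (2 * m + 1) - 1) / 2 ∨ Nat.card A = (3 ^ (2 * m + 1) + 1) / 4 ∨
          Nat.card A = 3 ^ (2 * m + 1) - 3 ^ (m + 1) + 1 ∨ Nat.card A = 3 ^ (2 * m + 1) + 3 ^ (m + 1) + 1))) := by
  classical
  have : CharP K 3 := ReeAbs.charP_three hK
  have Dl := ReeSetup.local_of_data D hK
  have ar := ReeClass.arith m
  obtain ⟨f, t₀, S⟩ := ReeSetup.exists_setup D hK hG Dl
  obtain ⟨A1, A2, z1, z2, k1, k2, n1, n2, x1, x2, hcov⟩ := ReeSetup.exists_tori D hm hK hG hcyc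
  have fact2 : Fact (Nat.Prime 2) := ⟨Nat.prime_two⟩
  have fact3 : Fact (Nat.Prime 3) := ⟨Nat.prime_three⟩
  have hnorm : ∀ r : ℕ, ∀ s ∈ X, ∀ x ∈ (Cfsg.pCore r X).map X.subtype,
      s⁻¹ * x * s ∈ (Cfsg.pCore r X).map X.subtype := by
    rintro r s hs _ ⟨x, hx, rfl⟩
    refine ⟨⟨s, hs⟩⁻¹ * x * ⟨s, hs⟩, ?_, rfl⟩
    have := (Cfsg.Agent.Lib.Cores.pCore_normal (G := X) r).conj_mem x hx (⟨s, hs⟩⁻¹)
    rwa [inv_inv] at this
  rcases solvable_cases X with ⟨r, hr, hr2, hr1⟩ | hc2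
  · -- odd case
    have factr : Fact r.Prime := ⟨hr⟩
    have hRp : IsPGroup r ((Cfsg.pCore r X).map X.subtype) :=
      (Cfsg.Agent.Lib.Cores.pCore_isPGroup (G := X) r).map _
    have hRodd : ∀ y ∈ (Cfsg.pCore r X).map X.subtype, Odd (orderOf y) := by
      intro y hy
      obtain ⟨k, hk⟩ := IsPGroup.iff_orderOf.1 hRp ⟨y, hy⟩
      rw [Subgroup.orderOf_mk] at hk
      rw [hk]
      exact (hr.odd_of_ne_two hr2).pow
    have hR1 : (Cfsg.pCore r X).map X.subtype ≠ ⊥ := by
      intro h0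
      apply hr1
      exact (Subgroup.map_eq_bot_iff_of_injective _ X.subtype_injective).1 h0
    obtain ⟨z, hz, hz1, hzc⟩ := exists_central hRp hR1
    rcases classify Dl ar S hz1 (hRodd z hz) with ⟨g, hg⟩ | ⟨g, hg⟩ | ⟨g, hg⟩ | hg
    · refine ⟨_, le_normalizer_of_TI (fun x hx hx1 y hy ho => (Dl.cent_U x hx hx1 y hy).2 ho)
        (fun x hx hx1 g hg y hy => Dl.B_U g (Dl.TI_U x hx hx1 g hg) y hy) hRodd (hnorm r) hz hz1 hzc hg, ?_⟩
      right; left
      have h3 : IsPGroup 3 ((ReeSylowThree.uSub D).map (MulAut.conj g).toMonoidHom) := by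
        apply IsPGroup.of_card (n := (2 * m + 1) * 3)
        rw [card_map_conj, Dl.card_U, pow_mul]
      have h4 : ¬ 3 ∣ ((ReeSylowThree.uSub D).map (MulAut.conj g).toMonoidHom).index := by
        have h5 := ((ReeSylowThree.uSub D).map (MulAut.conj g).toMonoidHom).card_mul_index
        rw [card_map_conj, ← (ReeSylowThree.uSub D).card_mul_index] at h5
        rw [Nat.eq_of_mul_eq_mul_left Nat.card_pos h5]
        exact index_U Dl ar
      exact ⟨h3.toSylow h4, rfl⟩
    · refine ⟨_, le_normalizer_of_TI (fun x hx hx1 y hy ho => Dl.odd_H y (Dl.cent_A x hx hx1 y hy) ho)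
        (fun x hx hx1 g hg y hy => Dl.N_A g (Dl.TI_A x hx hx1 g hg) y hy) hRodd (hnorm r) hz hz1 hzc hg, ?_⟩
      right; right
      refine ⟨isCyclic_map_conj _ _ (ReeSplit.isCyclic_aSub D), Or.inl ?_⟩
      rw [card_map_conj, Dl.card_A]
    · refine ⟨_, le_normalizer_of_TI (fun x hx hx1 y hy ho => S.odd_EA (S.cent_x hx hx1 hy) ho)
        (fun x hx hx1 g hg y hy => S.N_norm_A (S.TI hx hx1 hg) hy) hRodd (hnorm r) hz hz1 hzc hg, ?_⟩
      right; right
      refine ⟨isCyclic_map_conj _ _ S.cyclic_A, Or.inr (Or.inl ?_)⟩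
      rw [card_map_conj, S.card_A]
    · have key : ∀ C : Subgroup G, (∀ x ∈ C, x ≠ 1 → centralizer {x} = C) → ∀ g, g * z * g⁻¹ ∈ C →
          X ≤ normalizer ((C.map (MulAut.conj g⁻¹).toMonoidHom : Subgroup G) : Set G) := by
        intro C hC g hg
        refine le_normalizer_of_TI ?_ ?_ hRodd (hnorm r) hz hz1 hzc (by rwa [inv_inv])
        · intro x hx hx1 y hy _
          rw [← hC x hx hx1, mem_centralizer_singleton_iff]
          exact hy
        · intro x hx hx1 g hg y hy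
          have h1 := (normalizer (C : Set G)).inv_mem (mem_normalizer_of_conj hC hx hx1 hg)
          have h2 := (mem_normalizer_iff.1 h1 y).1 hy
          rwa [inv_inv] at h2
      obtain ⟨g, hg | hg⟩ := hcov z hz1 hg
      · refine ⟨_, key A1 x1 g hg, Or.inr (Or.inr ⟨isCyclic_map_conj _ _ z1, Or.inr (Or.inr (Or.inl ?_))⟩)⟩
        rw [card_map_conj, k1]
      · refine ⟨_, key A2 x2 g hg, Or.inr (Or.inr ⟨isCyclic_map_conj _ _ z2, Or.inr (Or.inr (Or.inr ?_))⟩)⟩
        rw [card_map_conj, k2]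
  · -- even case
    set E : Subgroup G := (Cfsg.pCore 2 X).map X.subtype with hEdef
    have hEp : IsPGroup 2 E := (Cfsg.Agent.Lib.Cores.pCore_isPGroup (G := X) 2).map _
    have hE2 : ∀ x ∈ E, x * x = 1 := S.two E hEp
    have hEX : E ≤ X := Subgroup.map_subtype_le _
    have hnE : X ≤ normalizer (E : Set G) := by
      intro s hs
      apply mem_normalizer_of_forall
      intro y hy
      have := hnorm 2 s⁻¹ (X.inv_mem hs) y hy
      rwa [inv_inv] at this
    obtain ⟨P, hP⟩ := hEp.exists_le_sylow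
    have hPc := card_sylow_two Dl ar P
    have hdvd : Nat.card E ∣ 8 := by
      rw [← hPc]; exact Subgroup.card_dvd_of_le hP
    have hle : Nat.card E ≤ 8 := Nat.le_of_dvd (by norm_num) hdvd
    by_cases h8 : Nat.card E = 8
    · refine ⟨E, hnE, Or.inl ⟨P, ?_⟩⟩
      exact Subgroup.eq_of_le_of_card_ge hP (by rw [h8]; exact hPc.le)
    by_cases h4 : Nat.card E = 4
    · obtain ⟨g, hg⟩ := four_conj S h4 hE2
      refine ⟨S.A.map (MulAut.conj g).toMonoidHom, ?_, Or.inr (Or.inr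
        ⟨isCyclic_map_conj _ _ S.cyclic_A, Or.inr (Or.inl (by rw [card_map_conj, S.card_A]))⟩)⟩
      intro s hs
      apply mem_normalizer_of_forall
      intro y hy
      rw [mem_map_conj] at hy ⊢
      have h5 : g⁻¹ * s⁻¹ * g ∈ S.N := by
        apply mem_normalizer_of_forall
        intro v hv
        have h6 : g * v * g⁻¹ ∈ E := by
          rw [hg, mem_map_conj]
          have : g⁻¹ * (g * v * g⁻¹) * g = v := by group
          rwa [this]
        have h7 := hnorm 2 s hs _ h6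
        rw [← hEdef, hg, mem_map_conj] at h7
        have h9 : g⁻¹ * s⁻¹ * g * v * (g⁻¹ * s⁻¹ * g)⁻¹ = g⁻¹ * (s⁻¹ * (g * v * g⁻¹) * s) * g := by group
        rwa [h9]
      have h6 := S.N_norm_A h5 hy
      have h7 : (g⁻¹ * s⁻¹ * g)⁻¹ * (g⁻¹ * y * g) * (g⁻¹ * s⁻¹ * g) = g⁻¹ * (s * y * s⁻¹) * g := by group
      rwa [h7] at h6
    · -- `|E| ≤ 2`
      have hle2 : Nat.card E ≤ 2 := by
        interval_cases (Nat.card E) <;> omega
      have hcent : ∀ s ∈ X, ∀ e ∈ E, s * e = e * s := by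
        intro s hs e he
        by_cases he1 : e = 1
        · rw [he1, mul_one, one_mul]
        have ho : orderOf e = 2 := orderOf_eq_prime (by rw [pow_two, hE2 e he]) he1
        have h5 : zpowers e = E := by
          apply Subgroup.eq_of_le_of_card_ge
          · rw [zpowers_le]; exact he
          · rw [Nat.card_zpowers, ho]; exact hle2
        have h6 := hnorm 2 s⁻¹ (X.inv_mem hs) e he
        rw [← hEdef, ← h5] at h6
        have h7 : s * e * s⁻¹ ≠ 1 := by
          intro h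
          apply he1
          calc e = s⁻¹ * (s * e * s⁻¹) * s := by group
            _ = 1 := by rw [h]; group
        obtain ⟨k, hk⟩ := h6
        rw [inv_inv] at hk
        simp only at hk
        have h8 : e ^ k = 1 ∨ e ^ k = e := by
          rcases Int.even_or_odd' k with ⟨c, rfl | rfl⟩
          · left
            rw [zpow_mul, zpow_ofNat, pow_two, hE2 e he, one_zpow]
          · right
            rw [zpow_add, zpow_mul, zpow_ofNat, pow_two, hE2 e he, one_zpow, one_mul, zpow_one]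
        rcases h8 with h8 | h8
        · exact absurd (hk.symm.trans h8) h7
        · have h9 : s * e * s⁻¹ = e := hk.symm.trans h8
          calc s * e = (s * e * s⁻¹) * s := by group
            _ = e * s := by rw [h9]
      have hXE : X ≤ E := by
        intro s hs
        have h5 : (⟨s, hs⟩ : X) ∈ centralizer (Cfsg.pCore 2 X : Set X) := by
          rw [mem_centralizer_iff]
          intro e he
          apply Subtype.ext
          exact (hcent s hs e ⟨e, he, rfl⟩).symm
        exact ⟨_, hc2 h5, rfl⟩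
      exact ⟨P, (hXE.trans hP).trans le_normalizer, Or.inl ⟨P, rfl⟩⟩

end main

end Cfsg.Agent.H125.ReeSolv
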